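import Mathlib
import Groth.Prelude
import Groth.Agent.Lib.Helper8.KosBCh.Main

/-!
# Ascent of Koszul-regular charts along arbitrary base change (flat quotient)
-/

set_option autoImplicit false
universe u

namespace Groth.Agent.H8.KosLoc

/-- `I` is generated by a Koszul-regular sequence on a basic open neighbourhood of `𝔮`. -/
def KRNear {P : Type u} [CommRing P] (I : Ideal P) (𝔮 : Ideal P) : Prop :=
  ∃ g : P, g ∉ 𝔮 ∧ ∃ l : List (Localization.Away g),
    LCI.IsKoszulRegularSeq (Localization.Away g) l ∧
      I.map (algebraMap P (Localization.Away g)) = Ideal.ofList l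

/-- `I` is generated by a Koszul-regular sequence in the local ring at `𝔮`. -/
def KRLoc {P : Type u} [CommRing P] (I : Ideal P) (𝔮 : Ideal P) [𝔮.IsPrime] : Prop :=
  ∃ L : List (Localization.AtPrime 𝔮),
    LCI.IsKoszulRegularSeq (Localization.AtPrime 𝔮) L ∧
      I.map (algebraMap P (Localization.AtPrime 𝔮)) = Ideal.ofList L

section asc

variable (R R' P P' : Type u) [CommRing R] [CommRing R'] [CommRing P] [CommRing P']
  [Algebra R P] [Algebra R R'] [Algebra P P'] [Algebra R' P'] [Algebra R P']
  [IsScalarTower R P P'] [IsScalarTower R R' P'] [Algebra.IsPushout R R' P P']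

include R R' in
/-- **(F4) ascent**. -/
theorem krNear_map_of_isPushout [Module.Flat R P] (I : Ideal P) [Module.Flat R (P ⧸ I)]
    (𝔮' : Ideal P') (h : KRNear I (𝔮'.comap (algebraMap P P'))) :
    KRNear (I.map (algebraMap P P')) 𝔮' := by
  obtain ⟨g, hg, l, hl, hIl⟩ := h
  set g' := algebraMap P P' g with hg'
  have hg'q : g' ∉ 𝔮' := hg
  refine ⟨g', hg'q, ?_⟩
  let Pg := Localization.Away g
  let Pg' := Localization.Away g'
  let φ : Pg →+* Pg' := IsLocalization.Away.map Pg Pg' (algebraMap P P') g
  let _ : Algebra Pg Pg' := φ.toAlgebra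
  have hφ : ∀ x : P, φ (algebraMap P Pg x) = algebraMap P' Pg' (algebraMap P P' x) := fun x =>
    IsLocalization.map_eq _ x
  have t1 : IsScalarTower P Pg Pg' := IsScalarTower.of_algebraMap_eq fun x => by
    rw [IsScalarTower.algebraMap_apply P P' Pg']
    exact (hφ x).symm
  have t2 : IsScalarTower R Pg Pg' := IsScalarTower.of_algebraMap_eq fun x => by
    rw [IsScalarTower.algebraMap_apply R P Pg, IsScalarTower.algebraMap_apply R P' Pg',
      IsScalarTower.algebraMap_apply R P P']
    exact (hφ _).symm
  have hloc : IsLocalization (Algebra.algebraMapSubmonoid P' (Submonoid.powers g)) Pg' := by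
    have h1 : Algebra.algebraMapSubmonoid P' (Submonoid.powers g) = Submonoid.powers g' := by
      rw [Algebra.algebraMapSubmonoid, Submonoid.map_powers]
    rw [h1]
    infer_instance
  have hpo1 : Algebra.IsPushout P P' Pg Pg' :=
    Algebra.isPushout_of_isLocalization (Submonoid.powers g) Pg P' Pg'
  have hpo0 : Algebra.IsPushout R P R' P' := Algebra.IsPushout.symm inferInstance
  have hpo2 : Algebra.IsPushout R Pg R' Pg' :=
    (Algebra.IsPushout.comp_iff R P R' P' (T := Pg) (T' := Pg')).mpr hpo1.symm
  have hpo3 : Algebra.IsPushout R R' Pg Pg' := hpo2.symm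
  have hflat : Module.Flat R Pg := Module.Flat.trans R P Pg
  have hfq : Module.Flat R (Pg ⧸ Ideal.ofList l) := by
    rw [← hIl]
    have : Module.Flat (P ⧸ I) (Pg ⧸ I.map (algebraMap P Pg)) :=
      IsLocalization.flat _ (Algebra.algebraMapSubmonoid (P ⧸ I) (Submonoid.powers g))
    have : IsScalarTower R (P ⧸ I) (Pg ⧸ I.map (algebraMap P Pg)) :=
      IsScalarTower.of_algebraMap_eq fun a => by
        show Ideal.Quotient.mk _ (algebraMap R Pg a) =
          Ideal.Quotient.mk _ (algebraMap P Pg (algebraMap R P a))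
        rw [← IsScalarTower.algebraMap_apply]
    exact Module.Flat.trans R (P ⧸ I) _
  refine ⟨l.map (algebraMap Pg Pg'),
    Groth.Agent.H8.KosBCh.isKoszulRegularSeq_map_of_isPushout R R' Pg Pg' l hl hfq, ?_⟩
  rw [← Ideal.map_ofList, ← hIl, Ideal.map_map, Ideal.map_map]
  congr 1
  ext x
  exact (hφ x).symm

end asc

end Groth.Agent.H8.KosLoc
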