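import Mathlib
import Groth.Prelude
import Groth.Agent.Lib.Helper8.KosLoc.Asc
import Groth.Agent.Lib.Helper8.LCIHom.KAt
import Groth.Agent.Lib.Helper8.LCIHom.Ring
import Groth.Agent.Lib.Helper5.LCIL.D

/-!
# Local complete intersection near a prime, in terms of a presentation
-/

set_option autoImplicit false
universe u

attribute [local instance] HasDerivedCategory.standard

namespace Groth.Agent.H8.KosLoc

open Groth.Agent.H8.KosIndep Groth.Agent.H8.LCIHom Groth.Agent.H5.LCIL MvPolynomial

/-- `B → C` is a local complete intersection map on a basic open neighbourhood of `q`. -/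
def LciAt (B C : Type u) [CommRing B] [CommRing C] [Algebra B C] (q : Ideal C) : Prop :=
  ∃ t : C, t ∉ q ∧ LCI.IsLCI B (Localization.Away t)

section ofList

variable {A : Type u} [CommRing A]

theorem isKoszulRegularIdeal_ofList (l : List A) (hl : LCI.IsKoszulRegularSeq A l) :
    LCI.IsKoszulRegularIdeal (Ideal.ofList l) := by
  apply isKoszulRegularIdeal_of_models
  intro 𝔭 _
  refine ⟨1, fun h => 𝔭.isPrime.ne_top ((Ideal.eq_top_iff_one _).mpr h), A, inferInstance,
    inferInstance, IsLocalization.away_of_isUnit_of_bijective A isUnit_one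
      Function.bijective_id, l, hl, ?_⟩
  rw [Algebra.algebraMap_self, Ideal.map_id]

end ofList

section mv

variable (B : Type u) [CommRing B] (n : ℕ)

theorem isLCI_mvPolynomial : LCI.IsLCI B (MvPolynomial (Fin n) B) := by
  refine ⟨inferInstance, n, AlgHom.id B _, Function.surjective_id, ?_⟩
  have h : RingHom.ker (AlgHom.id B (MvPolynomial (Fin n) B)).toRingHom = ⊥ := by
    rw [← RingHom.injective_iff_ker_eq_bot]
    exact Function.injective_id
  rw [h]
  exact isKoszulRegularIdeal_bot

end mv

section claimA

variable {B C : Type u} [CommRing B] [CommRing C] [Algebra B C] {n : ℕ}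
  (α : MvPolynomial (Fin n) B →ₐ[B] C)

include α in
theorem krNear_of_lciAt (hα : Function.Surjective α) (q : Ideal C) [q.IsPrime]
    (h : LciAt B C q) : KRNear (RingHom.ker α.toRingHom) (q.comap α.toRingHom) := by
  obtain ⟨t, ht, hL⟩ := h
  obtain ⟨G, hG⟩ := hα t
  have : IsLocalization.Away (α.toRingHom G) (Localization.Away t) := by
    rw [show α.toRingHom G = t from hG]; infer_instance
  have hK := isKoszulRegularIdeal_ker_map α G (Localization.Away t) hα hL
  have hG𝔮 : G ∉ q.comap α.toRingHom := by
    intro hmem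
    apply ht
    rw [← hG]
    exact hmem
  exact exists_of_map_away _ G (Localization.Away G) hK ⟨q.comap α.toRingHom, inferInstance⟩
    (fun x hx => by
      show α.toRingHom x ∈ q
      rw [RingHom.mem_ker.mp hx]
      exact q.zero_mem) hG𝔮

include α in
theorem lciAt_of_krNear (hα : Function.Surjective α) (q : Ideal C) [q.IsPrime]
    (h : KRNear (RingHom.ker α.toRingHom) (q.comap α.toRingHom)) : LciAt B C q := by
  obtain ⟨g, hg, l, hl, hIl⟩ := h
  refine ⟨α g, hg, ?_⟩
  let Pg := Localization.Away g
  let Ct := Localization.Away (α g)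
  have : IsLocalization.Away (α.toRingHom g) Ct := by
    show IsLocalization.Away (α g) Ct
    infer_instance
  let ψ : Pg →+* Ct := αQ α g Ct
  have hψs : Function.Surjective ψ := αQ_surjective α g Ct hα
  have hψk : RingHom.ker ψ = Ideal.ofList l := by
    rw [← hIl]
    exact ker_αQ α g Ct
  have h1 : IsLCIHom ψ := by
    apply isLCIHom_of_surjective_of_ker ψ hψs
    rw [hψk]
    exact isKoszulRegularIdeal_ofList l hl
  have h2 : IsLCIHom (algebraMap B Pg) :=
    isLCIHom_algebraMap_iff.mpr
      (isLCI_away_target B (MvPolynomial (Fin n) B) g Pg (isLCI_mvPolynomial B n))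
  have h3 : IsLCIHom (ψ.comp (algebraMap B Pg)) := IsLCIHom.stableUnderComposition _ _ h2 h1
  have h4 : ψ.comp (algebraMap B Pg) = algebraMap B Ct := by
    ext b
    rw [RingHom.comp_apply, IsScalarTower.algebraMap_apply B (MvPolynomial (Fin n) B) Pg,
      IsScalarTower.algebraMap_apply B C Ct]
    show αQ α g Ct _ = _
    rw [αQ_algebraMap, AlgHom.commutes]
  rw [h4] at h3
  exact isLCIHom_algebraMap_iff.mp h3

include α in
/-- **Claim A**. -/
theorem lciAt_iff_krNear (hα : Function.Surjective α) (q : Ideal C) [q.IsPrime] :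
    LciAt B C q ↔ KRNear (RingHom.ker α.toRingHom) (q.comap α.toRingHom) :=
  ⟨krNear_of_lciAt α hα q, lciAt_of_krNear α hα q⟩

end claimA

end Groth.Agent.H8.KosLoc
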