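import Mathlib
import Groth.Prelude
import Groth.Agent.Lib.Helper6.FiberDict

set_option autoImplicit false
universe u
open TensorProduct

namespace Groth.Agent.H8.KosLoc

open Groth.Agent.H6

variable {A B : Type u} [CommRing A] [CommRing B] [Algebra A B] (p : Ideal A) [p.IsPrime]
  (P : Ideal (p.Fiber B)) [P.IsPrime]

theorem ringEquiv_apply (b : B) :
    FiberDict.ringEquiv p P (algebraMap (p.Fiber B) (Localization.AtPrime P) (1 ⊗ₜ b)) =
      Ideal.Quotient.mk _ (algebraMap B (Localization.AtPrime (FiberDict.under p P)) b) := by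
  unfold FiberDict.ringEquiv Ideal.Fiber.algEquivAux₂
  simp
  letI : Algebra B (p.Fiber B) := Algebra.TensorProduct.rightAlgebra
  have h1 : (1 : p.ResidueField) ⊗ₜ[A] b = algebraMap B (p.Fiber B) b := rfl
  rw [h1, AlgEquiv.commutes]
  rw [← IsScalarTower.algebraMap_apply B _ (Localization.AtPrime (Ideal.comap (Ideal.Fiber.algEquivAux₁ p).symm P))]
  rw [IsScalarTower.algebraMap_apply B (B ⧸ Ideal.map (algebraMap A B) p) (Localization.AtPrime (Ideal.comap (Ideal.Fiber.algEquivAux₁ p).symm P))]
  have : IsLocalization
      (Algebra.algebraMapSubmonoid (B ⧸ Ideal.map (algebraMap A B) p)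
        (Ideal.comap Algebra.TensorProduct.includeRight P).primeCompl)
      (Localization.AtPrime (Ideal.comap (Ideal.Fiber.algEquivAux₁ p).symm P)) := by
    let q' := Ideal.comap (Ideal.Fiber.algEquivAux₁ p).symm P
    let r := (Ideal.comap Algebra.TensorProduct.includeRight P : Ideal B)
    let SpS := B ⧸ Ideal.map (algebraMap A B) p
    haveI : (q'.under SpS).LiesOver r := Ideal.under_liesOver_of_liesOver SpS q' (P.under B)
    haveI : Algebra.algebraMapSubmonoid SpS r.primeCompl = (q'.under SpS).primeCompl :=
      Ideal.algebraMapSubmonoid_primeCompl_of_liesOver_surjective (q'.under SpS) r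
        Ideal.Quotient.mk_surjective
    convert IsLocalization.isLocalization_isLocalization_atPrime_isLocalization
      (Algebra.algebraMapSubmonoid SpS (Algebra.algebraMapSubmonoid B p.primeCompl))
      (Localization.AtPrime q') q'
  rw [IsLocalization.map_eq]
  rfl

end Groth.Agent.H8.KosLoc
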