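import Mathlib
import Groth.Prelude
import Groth.Agent.Lib.Helper8.KosLoc.Asc
import Groth.Agent.Lib.Helper8.KosLoc.Dict
import Groth.Agent.Lib.Helper8.RegSec.Fib
import Groth.Agent.Lib.Helper8.Synt.Core
import Groth.Agent.Lib.Helper8.KosN.Reg
import Groth.Agent.Lib.Helper8.KosDesc.Loc
import Groth.Agent.Lib.Helper8.Rig.FlatTransfer
import Groth.Agent.Lib.Helper8.Synt.Kos2
import Groth.Agent.S15821

/-!
# Koszul-regular charts versus regular generation in the fibre local ring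
-/

set_option autoImplicit false
universe u

open Groth.Agent.H8.LCI RingTheory.Sequence Groth.Agent.H6 TensorProduct

namespace Groth.Agent.H8.KosLoc

section defs

variable (A : Type u) {P : Type u} [CommRing A] [CommRing P] [Algebra A P]

/-- the image of `I` in the fibre local ring at `𝔮` is generated by a regular sequence. -/
def RegFib (I : Ideal P) (𝔮 : Ideal P) [𝔮.IsPrime] : Prop :=
  ∃ rs : List (Localization.AtPrime 𝔮 ⧸ pL (A := A) 𝔮),
    RingTheory.Sequence.IsRegular (Localization.AtPrime 𝔮 ⧸ pL (A := A) 𝔮) rs ∧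
      Ideal.ofList rs = JR (A := A) I 𝔮

end defs

section general

variable {P : Type u} [CommRing P]

/-- (F1) -/
theorem krLoc_of_krNear (I : Ideal P) (𝔮 : Ideal P) [𝔮.IsPrime] (h : KRNear I 𝔮) : KRLoc I 𝔮 := by
  obtain ⟨g, hg, l, hl, hIl⟩ := h
  obtain ⟨L, -, hL, hIL⟩ := Groth.Agent.H8.KosDesc.exists_atPrime_of_away 𝔮 g hg l hl I hIl
  exact ⟨L, hL, hIL⟩

end general

section fibre

variable {A P : Type u} [CommRing A] [CommRing P] [Algebra A P]

/-- regular generation from Koszul-regular generation in a Noetherian local ring. -/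
theorem exists_regular_of_kr_noeth {F : Type u} [CommRing F] [IsNoetherianRing F] [IsLocalRing F]
    (J : Ideal F) (hJ : J ≠ ⊤) (L : List F) (hL : _root_.LCI.IsKoszulRegularSeq F L)
    (hgen : J = Ideal.ofList L) :
    ∃ rs : List F, RingTheory.Sequence.IsRegular F rs ∧ Ideal.ofList rs = J := by
  refine ⟨L, Groth.Agent.H8.KosN.isRegular_of_isKoszulRegularSeq L ?_ hL, hgen.symm⟩
  intro x hx
  apply IsLocalRing.le_maximalIdeal hJ
  rw [hgen]
  exact Ideal.subset_span hx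

/-- (F2) -/
theorem regFib_of_krLoc [Algebra.FiniteType A P] [Module.Flat A P] (I : Ideal P)
    [Module.Flat A (P ⧸ I)] (𝔮 : Ideal P) [𝔮.IsPrime] (hI : I ≤ 𝔮) (h : KRLoc I 𝔮) :
    RegFib A I 𝔮 := by
  obtain ⟨L, hL, hIL⟩ := h
  set p := 𝔮.comap (algebraMap A P) with hp
  have hpo := Groth.Agent.H8.Rig.isPushout_quotient A (Localization.AtPrime 𝔮) p
  have hflatL : Module.Flat A (Localization.AtPrime 𝔮) :=
    Module.Flat.trans A P (Localization.AtPrime 𝔮)
  have hflq : Module.Flat A (Localization.AtPrime 𝔮 ⧸ Ideal.ofList L) := by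
    rw [← hIL]
    exact flat_quot_KL (A := A) I 𝔮
  have hKRfib := Groth.Agent.H8.KosBCh.isKoszulRegularSeq_map_of_isPushout A (A ⧸ p)
    (Localization.AtPrime 𝔮) (Localization.AtPrime 𝔮 ⧸ pL (A := A) 𝔮) L hL hflq
  have hne : pL (A := A) 𝔮 ≠ ⊤ := fun h =>
    (IsLocalRing.maximalIdeal.isMaximal _).ne_top
      (top_le_iff.mp (h ▸ pL_le_maximalIdeal (A := A) 𝔮))
  have : Nontrivial (Localization.AtPrime 𝔮 ⧸ pL (A := A) 𝔮) :=
    Ideal.Quotient.nontrivial_iff.mpr hne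
  have : IsLocalRing (Localization.AtPrime 𝔮 ⧸ pL (A := A) 𝔮) :=
    IsLocalRing.of_surjective' (Ideal.Quotient.mk (pL (A := A) 𝔮)) Ideal.Quotient.mk_surjective
  have : IsNoetherianRing (Localization.AtPrime 𝔮 ⧸ pL (A := A) 𝔮) :=
    Groth.Agent.H8.RegSec.isNoetherianRing_fibLoc (A := A) 𝔮
  refine exists_regular_of_kr_noeth (JR (A := A) I 𝔮) (JR_ne_top I 𝔮 hI) _ hKRfib ?_
  rw [← Ideal.map_ofList, ← hIL]
  rfl

/-- (F3) -/
theorem krNear_of_regFib [Algebra.FinitePresentation A P] [Module.Flat A P] (I : Ideal P)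
    (hfg : I.FG) [Module.Flat A (P ⧸ I)] (𝔮 : Ideal P) [𝔮.IsPrime] (h : RegFib A I 𝔮) :
    KRNear I 𝔮 := by
  obtain ⟨g, hg, ys, hwr, hgen⟩ :=
    Groth.Agent.H8.Synt.exists_away_weaklyRegular_of_gens (A := A) I 𝔮 hfg h
  exact ⟨g, hg, _, (Groth.Agent.S15821.result _ _ hwr).1, hgen⟩

/-- (Dict) Koszul-regular generation in the local ring of the fibre gives regular generation in
the fibre local ring. -/
theorem regFib_of_krLoc_fiber [Algebra.FiniteType A P] (p : Ideal A) [p.IsPrime] (I : Ideal P)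
    (Q : Ideal (p.Fiber P)) [Q.IsPrime] (hI : I ≤ FiberDict.under p Q)
    (h : KRLoc (I.map (Algebra.TensorProduct.includeRight : P →ₐ[A] p.Fiber P).toRingHom) Q) :
    RegFib A I (FiberDict.under p Q) := by
  obtain ⟨L, hL, hIL⟩ := h
  set 𝔮 := FiberDict.under p Q with h𝔮
  let e := FiberDict.ringEquiv p Q
  have hne : pL (A := A) 𝔮 ≠ ⊤ := fun h =>
    (IsLocalRing.maximalIdeal.isMaximal _).ne_top
      (top_le_iff.mp (h ▸ pL_le_maximalIdeal (A := A) 𝔮))
  have : Nontrivial (Localization.AtPrime 𝔮 ⧸ pL (A := A) 𝔮) :=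
    Ideal.Quotient.nontrivial_iff.mpr hne
  have : IsLocalRing (Localization.AtPrime 𝔮 ⧸ pL (A := A) 𝔮) :=
    IsLocalRing.of_surjective' (Ideal.Quotient.mk (pL (A := A) 𝔮)) Ideal.Quotient.mk_surjective
  have : IsNoetherianRing (Localization.AtPrime 𝔮 ⧸ pL (A := A) 𝔮) :=
    Groth.Agent.H8.RegSec.isNoetherianRing_fibLoc (A := A) 𝔮
  have hKR : _root_.LCI.IsKoszulRegularSeq (Localization.AtPrime 𝔮 ⧸ pL (A := A) 𝔮) (L.map e) :=
    Groth.Agent.H8.SyntLocal.isKoszulRegularSeq_map_ringEquiv e L hL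
  refine exists_regular_of_kr_noeth (JR (A := A) I 𝔮) (JR_ne_top I 𝔮 hI) _ hKR ?_
  have h1 : Ideal.ofList (L.map e) = (Ideal.ofList L).map (e : _ →+* _) := by
    rw [Ideal.map_ofList]
    rfl
  rw [h1, ← hIL, Ideal.map_map, Ideal.map_map]
  change (I.map (algebraMap P (Localization.AtPrime 𝔮))).map (Ideal.Quotient.mk (pL (A := A) 𝔮)) = _
  rw [Ideal.map_map]
  congr 1
  ext b
  exact (ringEquiv_apply p Q b).symm

end fibre

end Groth.Agent.H8.KosLoc
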